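import Groth.Agent.Sga5.BrAbs
import Groth.Agent.EtpbcB.BCFlat
import Groth.Agent.Sga4B.HpullSquare
import Groth.Agent.Sga4h.EtaleRes

/-!
# Tools (light copies): the Leray comparison in low degrees, étale base change of the unit
-/

set_option autoImplicit false

universe w w' v v' u u'

open CategoryTheory CategoryTheory.Limits CategoryTheory.Abelian AlgebraicGeometry Opposite

namespace Groth.Agent.Sga2lef.H86.Tools

section Abstract

open Groth.Agent.Sga4B.ExtCmp Groth.Agent.Sga5 Groth.Agent.Sga5.BrAbs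

variable {C : Type u} [Category.{v} C] [Abelian C] [HasExt.{w} C]
variable {D : Type u'} [Category.{v'} D] [Abelian D] [HasExt.{w'} D] [EnoughInjectives D]
variable {L : C ⥤ D} [L.Additive] [PreservesFiniteLimits L] [PreservesFiniteColimits L]
variable {R : D ⥤ C} [R.Additive] [PreservesFiniteLimits R] (adj : L ⊣ R)

theorem cmp_id_eq {A F : C} {n : ℕ} :
    (cmp L (𝟙 (L.obj A)) F n : Ext.{w} A F n → Ext.{w'} (L.obj A) (L.obj F) n) =
      Ext.mapExactFunctor L := by
  funext x
  rw [cmp_apply, Ext.mk₀_id_comp]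

include adj in
theorem good_of_vanish (hc : ∀ M, IsIso (adj.counit.app M)) (N : ℕ) (F : C)
    [IsIso (adj.unit.app F)] (h : LowLeray.Vanish R N (L.obj F)) : Good.{w, w'} L N F := by
  intro A
  obtain ⟨h1, h2⟩ := LowLeray.main (R := R) adj (𝟙 (L.obj A)) hc N (L.obj F) h
  let α : R.obj (L.obj F) ≅ F := (asIso (adj.unit.app F)).symm
  have hinj : ∀ n ≤ N + 1, Function.Injective (cmp L (𝟙 (L.obj A)) (R.obj (L.obj F)) n :
      Ext.{w} A (R.obj (L.obj F)) n → Ext.{w'} (L.obj A) _ n) := by
    intro n hn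
    rcases Nat.lt_or_ge N n with h | h
    · obtain rfl : n = N + 1 := by omega
      exact h2
    · exact (h1 n h).1
  refine ⟨fun n hn => ?_, ?_⟩
  · rw [← cmp_id_eq]
    exact ⟨injective_of_iso L _ α n (hinj n (by omega)), surjective_of_iso L _ α n (h1 n hn).2⟩
  · rw [← cmp_id_eq]
    exact injective_of_iso L _ α _ (hinj _ le_rfl)

end Abstract

section BaseChange

variable {X Y X' Y' : Scheme.{u}} {f : X ⟶ Y} {g : Y' ⟶ Y} {f' : X' ⟶ Y'} {g' : X' ⟶ X}

theorem geometricallyConnected_id (X : Scheme.{u}) : GeometricallyConnected (𝟙 X) := by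
  refine ⟨fun K _ y Z fst snd h => ?_⟩
  have h1 : IsIso snd := h.isIso_snd_of_isIso
  have h2 : ConnectedSpace ↥(Spec (CommRingCat.of K)) :=
    inferInstanceAs (ConnectedSpace (PrimeSpectrum K))
  have h3 := (TopCat.homeoOfIso (asIso snd.base)).symm
  exact h3.surjective.connectedSpace h3.continuous

/-- étale base change in degree zero. -/
theorem isIso_baseChange0_of_etale (H : IsPullback g' f' f g) [Etale g] (F : EtCoh.Ab X) :
    IsIso (EtCoh.baseChange0 f g f' g' H.w F) := by
  refine EtpbcB.BCFlat.isIso_baseChange0_of_factor H F fun U y =>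
    ⟨U.left, U.left, 𝟙 _, 𝟙 _, U.hom ≫ g, inferInstance, ⟨y, rfl⟩, inferInstance, ?_, inferInstance,
      inferInstance, geometricallyConnected_id _⟩
  rfl

/-- The pullback of the unit followed by base change is the unit of the base change. -/
theorem pull_unit_baseChange0 (f : X ⟶ Y) (g : Y' ⟶ Y) (f' : X' ⟶ Y') (g' : X' ⟶ X) (w : g' ≫ f = f' ≫ g)
    (G : EtCoh.Ab Y) :
    (EtCoh.pull g).map ((EtCoh.pullPushAdj f).unit.app G) ≫
        EtCoh.baseChange0 f g f' g' w ((EtCoh.pull f).obj G) =
      (EtCoh.pullPushAdj f').unit.app ((EtCoh.pull g).obj G) ≫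
        (EtCoh.push f').map ((Sga4B.HpullSquare.pullSquare g f f' g' w).hom.app G) := by
  have h1 := Sga4B.HpullSquare.map_baseChange0_counit g f f' g' w ((EtCoh.pull f).obj G)
  have h2 := (EtCoh.pullPushAdj f').homEquiv_unit (X := (EtCoh.pull g).obj G)
    (f := (Sga4B.HpullSquare.pullSquare g f f' g' w).hom.app G)
  refine Eq.trans ?_ h2
  rw [← Equiv.symm_apply_eq]
  refine ((EtCoh.pullPushAdj f').homEquiv_counit _ _ _).trans ?_
  rw [Functor.map_comp, Category.assoc]
  refine (congrArg (fun t => _ ≫ t) h1).trans ?_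
  have h3 := (Sga4B.HpullSquare.pullSquare g f f' g' w).hom.naturality ((EtCoh.pullPushAdj f).unit.app G)
  refine (Category.assoc _ _ _).symm.trans ((congrArg (fun t => t ≫ _) h3).trans ?_)
  refine (Category.assoc _ _ _).trans ?_
  have h4 : (EtCoh.pull f ⋙ EtCoh.pull g').map ((EtCoh.pullPushAdj f).unit.app G) ≫
      (EtCoh.pull g').map ((EtCoh.pullPushAdj f).counit.app ((EtCoh.pull f).obj G)) = 𝟙 _ := by
    refine ((EtCoh.pull g').map_comp _ _).symm.trans ?_
    refine (congrArg (fun t => (EtCoh.pull g').map t)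
      ((EtCoh.pullPushAdj f).left_triangle_components G)).trans ?_
    exact (EtCoh.pull g').map_id _
  exact (congrArg (fun t => _ ≫ t) h4).trans (Category.comp_id _)

end BaseChange

end Groth.Agent.Sga2lef.H86.Tools
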