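import Groth.Agent.Sga2lef.H86.Dies
import Groth.Agent.Etcore.LimBC1
import Groth.Agent.Etcore.HpullEq
import Groth.Agent.Sga2lef.H86.Tools
import Groth.Agent.Sga4h.LocCohLES
import Groth.Agent.EtpbcA.PullFLC
import Groth.Prelude.Def_EtDepth

/-!
# Étale depth along an open immersion in terms of the unit and the higher direct images

`Cond j F n`: the unit `F ⟶ j_* j^* F` is a monomorphism if `n ≥ 1`, an isomorphism if `n ≥ 2`, and
`R^q j_* j^* F = 0` for `1 ≤ q`, `q + 1 < n`.

* `depthGE_iff_cond` : `EtDepth.DepthGE j F n ↔ Cond j F n`;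
* `Cond.etale` : stability under étale base change;
* `Cond.hp` : the restriction maps `H^p(X, F) → H^p(U, j^* F)` are bijective for `p + 1 < n` and injective for
  `p + 1 = n`;
* `cond_of_hp` : the converse, for all `V` étale over `X`.
-/

set_option autoImplicit false
universe u
open CategoryTheory CategoryTheory.Limits AlgebraicGeometry Opposite Abelian
open scoped Groth.Agent.Etcore.EtInst
open Groth.Agent.Etcore.EtInst

namespace Groth.Agent.Sga2lef.H86.DepthEt

open Groth.Agent.Etcore.HQ Groth.Agent.Etcore.RpushLoc Groth.Agent.Etcore.HpullCalc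
  Groth.Agent.Etcore.LimBC1 Groth.Agent.Sga2lef.H86.Dies Groth.Agent.Sga2lef.H86.Tools

attribute [local instance] pfl

variable {X U : Scheme.{u}} (j : U ⟶ X) [IsOpenImmersion j] (F : EtCoh.Ab X)

/-- The depth condition in terms of the unit and of the higher direct images. -/
structure Cond (n : ℕ) : Prop where
  mono : 1 ≤ n → Mono ((EtCoh.pullPushAdj j).unit.app F)
  iso : 2 ≤ n → IsIso ((EtCoh.pullPushAdj j).unit.app F)
  zero : ∀ q : ℕ, q + 3 ≤ n → IsZero ((EtCoh.Rpush j (q + 1)).obj ((EtCoh.pull j).obj F))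

theorem depthGE_iff_cond (n : ℕ) : EtDepth.DepthGE j F n ↔ Cond j F n := by
  constructor
  · intro h
    refine ⟨fun hn => ?_, fun hn => ?_, fun q hq => ?_⟩
    · exact (Groth.Agent.Sga4h.LocCohLES.isZero_locCoh_zero_iff j F).1 (h 0 (by omega))
    · have h1 : Mono (EtDual.unitApp j F) :=
        (Groth.Agent.Sga4h.LocCohLES.isZero_locCoh_zero_iff j F).1 (h 0 (by omega))
      have h2 : Epi (EtDual.unitApp j F) :=
        (Groth.Agent.Sga4h.LocCohLES.isZero_locCoh_one_iff j F).1 (h 1 (by omega))
      exact isIso_of_mono_of_epi (EtDual.unitApp j F)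
    · exact (h (q + 2) (by omega)).of_iso (Groth.Agent.Sga4h.LocCohLES.locCohSuccIso j F q)
  · intro h p hp
    match p, hp with
    | 0, hp => exact (Groth.Agent.Sga4h.LocCohLES.isZero_locCoh_zero_iff j F).2 (h.mono (by omega))
    | 1, hp =>
      have : IsIso (EtDual.unitApp j F) := h.iso (by omega)
      exact (Groth.Agent.Sga4h.LocCohLES.isZero_locCoh_one_iff j F).2 inferInstance
    | q + 2, hp =>
      exact (h.zero q (by omega)).of_iso (Groth.Agent.Sga4h.LocCohLES.locCohSuccIso j F q).symm

section Etale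

variable {j F}

theorem isZero_Rpush_etale {X' : Scheme.{u}} (g : X' ⟶ X) [Etale g] (G : EtCoh.Ab U) (q : ℕ)
    (h : IsZero ((EtCoh.Rpush j (q + 1)).obj G)) :
    IsZero ((EtCoh.Rpush (pullback.snd j g) (q + 1)).obj ((EtCoh.pull (pullback.fst j g)).obj G)) := by
  have hsq0 : IsPullback (𝟙 U) j j (𝟙 X) := IsPullback.of_horiz_isIso ⟨by simp⟩
  have h0 : IsZero ((EtCoh.Rpush j (q + 1)).obj ((EtCoh.pull (𝟙 U)).obj G)) :=
    h.of_iso ((EtCoh.Rpush j (q + 1)).mapIso ((Groth.Agent.EtpbcA.PullFLC.pullId U).app G))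
  have h1 := (isZero_Rpush_iff_hz hsq0 G q).1 h0
  refine (isZero_Rpush_iff_hz (IsPullback.of_hasPullback j g) G q).2 fun V u hu => ?_
  have hV : Etale V.hom := V.prop
  have hu' : Etale u := by rw [← hu]; infer_instance
  exact h1 (Scheme.Etale.mk u) u (Category.comp_id _)

/-- Stability under étale base change. -/
theorem Cond.etale {n : ℕ} (h : Cond j F n) {X' : Scheme.{u}} (g : X' ⟶ X) [Etale g] :
    Cond (pullback.snd j g) ((EtCoh.pull g).obj F) n := by
  have hsq := IsPullback.of_hasPullback j g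
  have e := pull_unit_baseChange0 j g (pullback.snd j g) (pullback.fst j g) hsq.w F
  have hbc : IsIso (EtCoh.baseChange0 j g (pullback.snd j g) (pullback.fst j g) hsq.w
      ((EtCoh.pull j).obj F)) := isIso_baseChange0_of_etale hsq _
  refine ⟨fun hn => ?_, fun hn => ?_, fun q hq => ?_⟩
  · have := h.mono hn
    have h1 : Mono ((EtCoh.pullPushAdj (pullback.snd j g)).unit.app ((EtCoh.pull g).obj F) ≫
        (EtCoh.push (pullback.snd j g)).map ((Groth.Agent.Sga4B.HpullSquare.pullSquare g j
          (pullback.snd j g) (pullback.fst j g) hsq.w).hom.app F)) := by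
      rw [← e]
      infer_instance
    exact mono_of_mono _ ((EtCoh.push (pullback.snd j g)).map
      ((Groth.Agent.Sga4B.HpullSquare.pullSquare g j
          (pullback.snd j g) (pullback.fst j g) hsq.w).hom.app F))
  · have := h.iso hn
    have h1 : IsIso ((EtCoh.pullPushAdj (pullback.snd j g)).unit.app ((EtCoh.pull g).obj F) ≫
        (EtCoh.push (pullback.snd j g)).map ((Groth.Agent.Sga4B.HpullSquare.pullSquare g j
          (pullback.snd j g) (pullback.fst j g) hsq.w).hom.app F)) := by
      rw [← e]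
      infer_instance
    exact IsIso.of_isIso_comp_right _ ((EtCoh.push (pullback.snd j g)).map
      ((Groth.Agent.Sga4B.HpullSquare.pullSquare g j
          (pullback.snd j g) (pullback.fst j g) hsq.w).hom.app F))
  · exact (isZero_Rpush_etale g _ q (h.zero q hq)).of_iso
      ((EtCoh.Rpush (pullback.snd j g) (q + 1)).mapIso ((Groth.Agent.Sga4B.HpullSquare.pullSquare g j
          (pullback.snd j g) (pullback.fst j g) hsq.w).app F))

end Etale

section Global

variable {j F}

theorem isIso_counit (M : EtCoh.Ab U) : IsIso ((EtCoh.pullPushAdj j).counit.app M) := by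
  have : EtShriek.JCont j := Groth.Agent.Sga4h.EtaleRes.jCont j
  infer_instance

theorem hp_eq_comp (n : ℕ) : (hp j F n : HH X F n → HH U ((EtCoh.pull j).obj F) n) =
    (fun z => (Ext.mk₀ (EtCore.pullConst j ℤ).inv).comp z (zero_add n)) ∘
      (Ext.mapExactFunctor (EtCoh.pull j)) := rfl

/-- The restriction maps in terms of the condition. -/
theorem Cond.bijective {n : ℕ} (h : Cond j F n) (p : ℕ) (hp' : p + 1 < n) :
    Function.Bijective (hp j F p) := by
  have := h.iso (by omega)
  have hg := (Groth.Agent.Sga2lef.H86.Tools.good_of_vanish.{u + 1, u + 1} (EtCoh.pullPushAdj j) isIso_counit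
    (n - 2) F (fun q hq1 hq2 => by
      obtain ⟨m, rfl⟩ : ∃ m, q = m + 1 := ⟨q - 1, by omega⟩
      exact h.zero m (by omega)) (EtCoh.const X ℤ)).1 p (by omega)
  rw [hp_eq_comp]
  exact (Groth.Agent.Sga4B.ExtCmp.bijective_mk₀_comp (EtCore.pullConst j ℤ).inv _ p).comp hg

theorem Cond.injective {n : ℕ} (h : Cond j F n) (p : ℕ) (hp' : p + 1 = n) :
    Function.Injective (hp j F p) := by
  match p, hp' with
  | 0, hp' =>
    have := h.mono (by omega)
    rw [injective_hp_zero_iff, injective_unitSec_iff]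
    have h1 : Mono ((sheafToPresheaf _ _).map ((EtCoh.pullPushAdj j).unit.app F)) := inferInstance
    have h2 := (NatTrans.mono_iff_mono_app _).1 h1 (op (EtCoh.top X))
    exact (AddCommGrpCat.mono_iff_injective _).1 h2
  | p + 1, hp' =>
    have := h.iso (by omega)
    have hg := (Groth.Agent.Sga2lef.H86.Tools.good_of_vanish.{u + 1, u + 1} (EtCoh.pullPushAdj j) isIso_counit
      p F (fun q hq1 hq2 => by
        obtain ⟨m, rfl⟩ : ∃ m, q = m + 1 := ⟨q - 1, by omega⟩
        exact h.zero m (by omega)) (EtCoh.const X ℤ)).2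
    rw [hp_eq_comp]
    exact (Groth.Agent.Sga4B.ExtCmp.bijective_mk₀_comp (EtCore.pullConst j ℤ).inv _ (p + 1)).1.comp hg

end Global

end Groth.Agent.Sga2lef.H86.DepthEt
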