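import Groth.Agent.Etcore.RpushLoc

/-!
# Positive degree classes on the small étale site die étale locally
-/

set_option autoImplicit false
universe u
open CategoryTheory CategoryTheory.Limits AlgebraicGeometry Opposite Abelian
open scoped Groth.Agent.Etcore.EtInst
open Groth.Agent.Etcore.EtInst

namespace Groth.Agent.Sga2lef.H86.Dies

open Groth.Agent.Etcore.HQ Groth.Agent.Etcore.RpushLoc

variable {X : Scheme.{u}}

/-- The class of a section over `V`. -/
noncomputable def secV (F : EtCoh.Ab X) (V : X.Etale) (s : EtCoh.sect F V) : HQ F V.hom 0 :=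
  sec F V.hom (𝟙 V.left) (Category.id_comp _) s

theorem secV_bijective (F : EtCoh.Ab X) (V : X.Etale) : Function.Bijective (secV F V) :=
  sec_bijective F V

theorem res_secV (F : EtCoh.Ab X) {V V' : X.Etale} (k : V' ⟶ V) (s : EtCoh.sect F V) :
    res F k.left (Groth.Agent.EtpbcB.Big.et_w k) 0 (secV F V s) = secV F V' (F.obj.map k.op s) := by
  refine (res_sec F k.left (Groth.Agent.EtpbcB.Big.et_w k) (𝟙 V.left) (Category.id_comp _) k.left
    (Groth.Agent.EtpbcB.Big.et_w k) (Category.comp_id _) s).trans ?_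
  exact (sec_res F V'.hom (𝟙 V'.left) (Category.id_comp _) k k.left (Groth.Agent.EtpbcB.Big.et_w k)
    (Category.id_comp _) s).symm

theorem map_secV {F G : EtCoh.Ab X} (φ : F ⟶ G) (V : X.Etale) (s : EtCoh.sect F V) :
    map φ V.hom 0 (secV F V s) = secV G V (φ.hom.app (op V) s) :=
  map_sec φ V.hom (𝟙 V.left) (Category.id_comp _) s

/-- Classes of positive degree die étale locally. -/
theorem dies (n : ℕ) : ∀ (F : EtCoh.Ab X) (V : X.Etale) (ξ : HQ F V.hom (n + 1)) (v : V.left),
    ∃ (V' : X.Etale) (k : V' ⟶ V) (v' : V'.left), k.left v' = v ∧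
      res F k.left (Groth.Agent.EtpbcB.Big.et_w k) (n + 1) ξ = 0 := by
  have het : ∀ V : X.Etale, Etale V.hom := fun V => V.prop
  induction n with
  | zero =>
    intro F V ξ v
    have := het V
    obtain ⟨η, hη⟩ := exists_δ_eq (injSeq_shortExact F) V.hom 0 ξ (eq_zero_of_injective _ _ 0 _)
    obtain ⟨s, rfl⟩ := (secV_bijective (injSeq F).X₃ V).2 η
    have hepi : Epi (injSeq F).g := (injSeq_shortExact F).epi_g
    obtain ⟨V', k, v', hv', t, ht⟩ :=
      (EtpbcA.StalkTools.epi_iff_locIm (injSeq F).g).1 hepi V s v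
    refine ⟨V', k, v', hv', ?_⟩
    rw [← hη]
    refine (res_δ (injSeq_shortExact F) k.left (Groth.Agent.EtpbcB.Big.et_w k) 0 _).trans ?_
    rw [res_secV]
    have e : secV (injSeq F).X₃ V' ((injSeq F).X₃.obj.map k.op s) =
        map (injSeq F).g V'.hom 0 (secV (injSeq F).X₂ V' t) := by
      rw [map_secV]
      exact congrArg (secV (injSeq F).X₃ V') ht.symm
    rw [e, δ_map]
    rfl
  | succ n ih =>
    intro F V ξ v
    have := het V
    obtain ⟨η, hη⟩ := exists_δ_eq (injSeq_shortExact F) V.hom (n + 1) ξ (eq_zero_of_injective _ _ _ _)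
    obtain ⟨V', k, v', hv', h0⟩ := ih _ V η v
    refine ⟨V', k, v', hv', ?_⟩
    rw [← hη]
    refine (res_δ (injSeq_shortExact F) k.left (Groth.Agent.EtpbcB.Big.et_w k) (n + 1) _).trans ?_
    rw [h0, map_zero]
    rfl

end Groth.Agent.Sga2lef.H86.Dies
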